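import Groth.Agent.DerComp18.AffineSec
import Groth.Agent.Mod48.TruncTower
import Groth.Agent.DCX42.Der
import Groth.Prelude.Def_CohCx

/-! Objects with quasi-coherent cohomology are derived limits of their truncations. -/

set_option autoImplicit false
set_option backward.isDefEq.respectTransparency.types false
set_option synthInstance.maxHeartbeats 200000
set_option maxHeartbeats 1000000

noncomputable section

universe u

open CategoryTheory CategoryTheory.Limits DerivedCategory AlgebraicGeometry

attribute [local instance] HasDerivedCategory.standard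

namespace Groth.Agent.QCohDer72

theorem isRlimVia_truncTower (X : Scheme.{u}) (E : DCoh.D X) (hE : DCoh.IsQCohD E)
    [HasProduct (CohCx.truncTower E)] :
    CohCx.IsRlimVia (CohCx.truncTower E) (CohCx.truncTowerMap E) E (CohCx.toTruncTower E) := by
  refine @Mod48.LocGen.isRlimVia_truncTower X.Modules inferInstance inferInstance inferInstance _ _ _
    (Mod48.modGen X.sheaf) E inferInstance {V : X.Opens | IsAffineOpen V} DerComp18.affine_cover fun V _ m => ⟨(-m).toNat + 1, fun T hT => ?_⟩
  obtain ⟨ι, Y, g, h1, h2, h3⟩ := Mod48.exists_refinement _ DerComp18.affine_cover T hT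
  exact ⟨ι, Y, g, h1, h2, fun i n hn q k _ hk₁ _ => DerComp18.vanishAt_affine (h3 i) (hE q) (by omega)⟩

end Groth.Agent.QCohDer72
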